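import Groth.Agent.Lib.AffMono14.Hull
import Groth.Agent.Lib.HopfNQ14.Basic
import Groth.Agent.Lib.GrpSchField.Points
import Groth.Agent.S4094
import Mathlib

/-!
The affine hull of an algebraic group over a field is an affine algebraic group, and the canonical homomorphism
is faithfully flat.
-/

set_option autoImplicit false
set_option backward.isDefEq.respectTransparency false

universe u

open CategoryTheory CategoryTheory.Limits MonoidalCategory CartesianMonoidalCategory MonObj GrpObj AlgebraicGeometry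
open scoped TensorProduct

noncomputable section

namespace GrothLib.AffHull14

open GrothLib.AffMono14

variable {k : Type u} [Field k]

local notation "S" => Spec (CommRingCat.of k)

/-- The affine hull. -/
abbrev hullObj (G : Over S) : Over S := Over.mk (Spec.map G.hom.appTop ≫ (S).isoSpec.inv)

/-- The canonical morphism to the affine hull. -/
def toHull (G : Over S) : G ⟶ hullObj G := Over.homMk G.left.toSpecΓ (by
  show G.left.toSpecΓ ≫ Spec.map G.hom.appTop ≫ (S).isoSpec.inv = G.hom
  rw [← Scheme.toSpecΓ_naturality_assoc, ← Scheme.isoSpec_hom, Iso.hom_inv_id, Category.comp_id])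

theorem isHull_toHull (G : Over S) [QuasiCompact G.hom] [QuasiSeparated G.hom] : IsHull (toHull G) := by
  haveI : CompactSpace G.left := QuasiCompact.compactSpace_of_compactSpace G.hom
  haveI : QuasiSeparatedSpace G.left := quasiSeparatedSpace_of_quasiSeparated G.hom
  exact ⟨inferInstance, inferInstance, inferInstanceAs (IsAffine (Spec _)),
    (by show IsIso G.left.toSpecΓ.appTop; rw [Scheme.toSpecΓ_appTop]; infer_instance)⟩

/-- A hull of a group is a group. -/
theorem exists_grpObj_hull {G H : Over S} [GrpObj G] {i : G ⟶ H} (hi : IsHull i) :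
    ∃ _ : GrpObj H, IsMonHom i := by
  haveI := hi.affine
  have h2 := hi.tensor hi
  haveI : IsAffine (H ⊗ H).left := h2.affine
  have h3 := h2.tensor hi
  obtain ⟨m, hm⟩ := h2.exists_lift (Z := H) (μ[G] ≫ i)
  obtain ⟨v, hv⟩ := hi.exists_lift (Z := H) (ι[G] ≫ i)
  let e : 𝟙_ (Over S) ⟶ H := η[G] ≫ i
  let inst : GrpObj H := {
    one := e
    mul := m
    one_mul := by
      have hh : IsHull (𝟙 (𝟙_ (Over S)) ⊗ₘ i) := IsHull.tensor ⟨inferInstanceAs (QuasiCompact (𝟙 S)),
        inferInstanceAs (QuasiSeparated (𝟙 S)), inferInstanceAs (IsAffine S), inferInstanceAs (IsIso (Scheme.Hom.appTop (𝟙 S)))⟩ hi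
      refine hh.ext ?_
      have : (𝟙 (𝟙_ (Over S)) ⊗ₘ i) ≫ (e ▷ H) = (η[G] ▷ G) ≫ (i ⊗ₘ i) := by
        apply CartesianMonoidalCategory.hom_ext <;> simp [e, leftUnitor_hom, toUnit_unique (fst (𝟙_ (Over S)) G) (toUnit _)]
      rw [reassoc_of% this, hm, ← Category.assoc, MonObj.one_mul]
      simp [leftUnitor_hom]
    mul_one := by
      have hh : IsHull (i ⊗ₘ 𝟙 (𝟙_ (Over S))) := IsHull.tensor hi ⟨inferInstanceAs (QuasiCompact (𝟙 S)),
        inferInstanceAs (QuasiSeparated (𝟙 S)), inferInstanceAs (IsAffine S), inferInstanceAs (IsIso (Scheme.Hom.appTop (𝟙 S)))⟩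
      refine hh.ext ?_
      have : (i ⊗ₘ 𝟙 (𝟙_ (Over S))) ≫ (H ◁ e) = (G ◁ η[G]) ≫ (i ⊗ₘ i) := by
        apply CartesianMonoidalCategory.hom_ext <;> simp [e, rightUnitor_hom, toUnit_unique (snd G (𝟙_ (Over S))) (toUnit _)]
      rw [reassoc_of% this, hm, ← Category.assoc, MonObj.mul_one]
      simp [rightUnitor_hom]
    mul_assoc := by
      refine h3.ext ?_
      have e1 : ((i ⊗ₘ i) ⊗ₘ i) ≫ (m ▷ H) = (μ[G] ▷ G) ≫ (i ⊗ₘ i) := by
        rw [← tensorHom_id m H, tensorHom_comp_tensorHom, hm, Category.comp_id, ← tensorHom_id μ[G] G,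
          tensorHom_comp_tensorHom, Category.id_comp]
      have e2 : ((i ⊗ₘ i) ⊗ₘ i) ≫ (α_ H H H).hom ≫ (H ◁ m) = (α_ G G G).hom ≫ (G ◁ μ[G]) ≫ (i ⊗ₘ i) := by
        rw [associator_naturality_assoc]
        congr 1
        rw [← id_tensorHom H m, tensorHom_comp_tensorHom, hm, Category.comp_id, ← id_tensorHom G μ[G],
          tensorHom_comp_tensorHom, Category.id_comp]
      rw [reassoc_of% e1, reassoc_of% e2, hm, MonObj.mul_assoc_assoc]
    inv := v
    left_inv := by
      refine hi.ext ?_
      have e1 : i ≫ lift v (𝟙 H) = lift ι[G] (𝟙 G) ≫ (i ⊗ₘ i) := by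
        apply CartesianMonoidalCategory.hom_ext <;> simp [hv]
      rw [reassoc_of% e1, hm, GrpObj.left_inv_assoc]
      simp [e, toUnit_unique (i ≫ toUnit H) (toUnit G)]
    right_inv := by
      refine hi.ext ?_
      have e1 : i ≫ lift (𝟙 H) v = lift (𝟙 G) ι[G] ≫ (i ⊗ₘ i) := by
        apply CartesianMonoidalCategory.hom_ext <;> simp [hv]
      rw [reassoc_of% e1, hm, GrpObj.right_inv_assoc]
      simp [e, toUnit_unique (i ≫ toUnit H) (toUnit G)] }
  letI := inst
  haveI : IsMonHom i := { one_hom := rfl, mul_hom := hm.symm }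
  exact ⟨inst, inferInstance⟩

/-- A schematically dominant homomorphism from an algebraic group to an affine algebraic group is faithfully flat. -/
theorem flat_surjective_of_dominant {G L : Over S} [GrpObj G] [GrpObj L] [LocallyOfFiniteType G.hom]
    [QuasiCompact G.hom] [IsAffine L.left] [LocallyOfFiniteType L.hom] (f : G ⟶ L) [IsMonHom f]
    (hinj : Function.Injective f.left.appTop.hom) : Flat f.left ∧ Surjective f.left := by
  haveI : LocallyOfFinitePresentation G.hom := inferInstance
  obtain ⟨Q, _, p, j, hp, hj, hpj, hps, hpf, -, hm, hQ, -⟩ :=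
    Groth.Agent.S4094.result S G L f (GrothLib.AlgSp.flat_to_field _)
  haveI : CompactSpace G.left := QuasiCompact.compactSpace_of_compactSpace G.hom
  haveI := hp
  haveI := hj
  haveI := hps
  haveI : CompactSpace Q.left := ⟨by
    rw [← Set.range_eq_univ.2 hps.surj]
    exact isCompact_range p.left.continuous⟩
  haveI : IsAffineHom L.hom := isAffineHom_of_isAffine _
  haveI : QuasiCompact j.left := inferInstance
  haveI := hm
  haveI := isClosedImmersion_of_mono j
  haveI : IsAffine Q.left := isAffine_of_isAffineHom j.left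
  have h : f.left.appTop = j.left.appTop ≫ p.left.appTop := by
    rw [← Scheme.Hom.comp_appTop, ← Over.comp_left, hpj]
  rw [h] at hinj
  haveI : IsIso j.left.appTop := (ConcreteCategory.isIso_iff_bijective j.left.appTop).2
    ⟨fun a b e => hinj (congrArg p.left.appTop.hom e), j.left.app_surjective ⊤ (isAffineOpen_top _)⟩
  haveI : IsIso j.left := by
    rw [show j.left = Q.left.isoSpec.hom ≫ Spec.map j.left.appTop ≫ L.left.isoSpec.inv by
      rw [Scheme.isoSpec_hom_naturality_assoc, Iso.hom_inv_id, Category.comp_id]]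
    infer_instance
  rw [show f.left = p.left ≫ j.left by rw [← hpj, Over.comp_left]]
  haveI := hpf
  exact ⟨inferInstance, inferInstance⟩

/-- An ideal is recovered from a flat family with jointly surjective spectra. -/
theorem mem_of_mem_map_faithfullyFlat {D R : Type u} [CommRing D] [CommRing R] [Algebra D R]
    [Module.Flat D R] (hs : Function.Surjective (PrimeSpectrum.comap (algebraMap D R))) {I : Ideal D} {d : D}
    (h : algebraMap D R d ∈ I.map (algebraMap D R)) : d ∈ I := by
  haveI := Module.FaithfullyFlat.of_comap_surjective (A := D) (B := R) hs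
  rw [← Ideal.comap_map_eq_self_of_faithfullyFlat (A := D) (B := R) I]
  exact h

/-- Two sub-Hopf algebras with the same kernel are equal. -/
theorem le_of_augIdealSpan_le {A : Type u} [CommRing A] [HopfAlgebra k A] {C D : Subalgebra k A}
    (hC : SGA3.IsHopfSubalgebra k A C) (hD : SGA3.IsHopfSubalgebra k A D)
    (h : ∀ d ∈ D, Coalgebra.counit (R := k) d = 0 → d ∈ SGA3.augIdealSpan k A C) : D ≤ C := by
  intro x hx
  refine GrothLib.HopfNQ14.mem_of_invariant hC rfl ?_
  set J := SGA3.augIdealSpan k A C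
  obtain ⟨y, hy⟩ := hD.1 x hx
  rw [← hy]
  have key : ∀ y : D ⊗[k] D, (Ideal.Quotient.mkₐ k J).toLinearMap.lTensor A
      (TensorProduct.map D.val.toLinearMap D.val.toLinearMap y) =
      (TensorProduct.rid k A (LinearMap.lTensor A (Coalgebra.counit (R := k))
        (TensorProduct.map D.val.toLinearMap D.val.toLinearMap y))) ⊗ₜ[k] (1 : A ⧸ J) := by
    intro y
    induction y using TensorProduct.induction_on with
    | zero => simp
    | tmul p q =>
      have : Ideal.Quotient.mk J (q : A) = Coalgebra.counit (R := k) (q : A) • (1 : A ⧸ J) := by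
        rw [← Algebra.algebraMap_eq_smul_one, ← (Ideal.Quotient.mkₐ k J).commutes]
        refine Ideal.Quotient.eq.2 (h _ (sub_mem q.2 (Subalgebra.algebraMap_mem _ _)) ?_)
        rw [map_sub, Bialgebra.counit_algebraMap, sub_self]
      simp [this, TensorProduct.tmul_smul, TensorProduct.smul_tmul']
    | add a b ha hb => simp only [map_add, ha, hb, TensorProduct.add_tmul]
  rw [key, hy, Coalgebra.lTensor_counit_comul]
  simp

/-- Functions on an algebraic group form a finitely generated algebra. -/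
theorem finiteType_hull (G : Over S) [GrpObj G] [LocallyOfFiniteType G.hom] [QuasiCompact G.hom]
    (A : Type u) [CommRing A] [HopfAlgebra k A] (ψ : G ⟶ (Spec (CommRingCat.of A)).asOver S) [IsMonHom ψ]
    (hψ : Function.Injective ψ.left.appTop.hom) : Algebra.FiniteType k A := by
  classical
  haveI : CompactSpace G.left := QuasiCompact.compactSpace_of_compactSpace G.hom
  haveI : IsLocallyNoetherian G.left := LocallyOfFiniteType.isLocallyNoetherian G.hom
  let 𝒰 := G.left.affineCover.finiteSubcover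
  haveI : ∀ a, IsAffine (𝒰.X a) := fun a => inferInstanceAs (IsAffine (G.left.affineCover.X _))
  let R : 𝒰.I₀ → Type u := fun a => Γ(𝒰.X a, ⊤)
  haveI : ∀ a, IsNoetherianRing (R a) := fun a => by
    haveI : IsLocallyNoetherian (𝒰.X a) := LocallyOfFiniteType.isLocallyNoetherian (𝒰.f a)
    exact IsLocallyNoetherian.component_noetherian ⟨⊤, isAffineOpen_top _⟩
  let g : ∀ a, Spec (CommRingCat.of (R a)) ⟶ G.left := fun a => (𝒰.X a).isoSpec.inv ≫ 𝒰.f a
  let φa : ∀ a, A →+* R a := fun a => (Spec.preimage (g a ≫ ψ.left)).hom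
  let φ : A →+* ∀ a, R a := Pi.ringHom φa
  let I : Subalgebra k A → Ideal (∀ a, R a) := fun C =>
    Ideal.span (φ '' {c : A | c ∈ C ∧ Coalgebra.counit (R := k) c = 0})
  have hImono : ∀ {C D : Subalgebra k A}, C ≤ D → I C ≤ I D := fun h =>
    Ideal.span_mono (Set.image_mono fun c hc => ⟨h hc.1, hc.2⟩)
  obtain ⟨C₀, hC₀, hC₀'⟩ : ∃ C : Subalgebra k A, C.FG ∧ SGA3.IsHopfSubalgebra k A C := by
    obtain ⟨C, h1, h2, -⟩ := GrothLib.Hopf.Sub.exists_fg (k := k) (∅ : Finset A)
    exact ⟨C, h1, h2⟩
  obtain ⟨_, ⟨C, hCfg, hC, rfl⟩, hmax⟩ := WellFounded.has_min (wellFounded_gt (α := Ideal (∀ a, R a)))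
    {J | ∃ C : Subalgebra k A, C.FG ∧ SGA3.IsHopfSubalgebra k A C ∧ I C = J} ⟨_, C₀, hC₀, hC₀', rfl⟩
  obtain ⟨s, hs⟩ := hCfg
  refine ⟨?_⟩
  suffices h : C = ⊤ by rw [← h]; exact ⟨s, hs⟩
  refine eq_top_iff.2 fun x _ => ?_
  obtain ⟨D, hDfg, hD, hsD⟩ := GrothLib.Hopf.Sub.exists_fg (k := k) (insert x s)
  have hCD : C ≤ D := hs ▸ Algebra.adjoin_le fun y hy => hsD (by simp [show y ∈ s from hy])
  have hID : I D = I C := by
    by_contra hne
    exact hmax (I D) ⟨D, hDfg, hD, rfl⟩ (lt_of_le_of_ne (hImono hCD) (Ne.symm hne))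
  refine le_of_augIdealSpan_le hC hD (fun d hd hd0 => ?_) (hsD (by simp))
  letI := GrothLib.Hopf.Sub.hopfAlgebra hD
  haveI : Algebra.FiniteType k D := ⟨(Subalgebra.fg_top D).mpr hDfg⟩
  let v : D →ₐc[k] A := GrothLib.Hopf.Sub.valHom hD
  let q : (Spec (CommRingCat.of A)).asOver S ⟶ (Spec (CommRingCat.of D)).asOver S :=
    ((hopfSpec (CommRingCat.of k)).map (X := Opposite.op (CommHopfAlgCat.of k A))
      (Y := Opposite.op (CommHopfAlgCat.of k D)) (CommHopfAlgCat.ofHom v).op).hom.hom
  haveI : IsMonHom q := ((hopfSpec (CommRingCat.of k)).map (X := Opposite.op (CommHopfAlgCat.of k A))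
      (Y := Opposite.op (CommHopfAlgCat.of k D)) (CommHopfAlgCat.ofHom v).op).hom.isMonHom_hom
  have hq : q.left = Spec.map (CommRingCat.ofHom (D.val : D →+* A)) := rfl
  haveI : LocallyOfFiniteType ((Spec (CommRingCat.of D)).asOver S).hom :=
    (HasRingHomProperty.Spec_iff (P := @LocallyOfFiniteType)).2 (RingHom.finiteType_algebraMap.2 inferInstance)
  haveI : IsAffine ((Spec (CommRingCat.of D)).asOver S).left := inferInstanceAs (IsAffine (Spec _))
  have hinj : Function.Injective (ψ ≫ q).left.appTop.hom := by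
    rw [Over.comp_left, Scheme.Hom.comp_appTop, CommRingCat.hom_comp, RingHom.coe_comp]
    refine hψ.comp ?_
    intro a b hab
    rw [hq] at hab
    apply (Scheme.ΓSpecIso (CommRingCat.of D)).commRingCatIsoToRingEquiv.injective
    have hn := fun c => congrArg (fun q => q.hom c)
      (Scheme.ΓSpecIso_naturality (CommRingCat.ofHom (D.val : D →+* A)))
    exact Subtype.val_injective
      ((hn a).symm.trans ((congrArg (fun c => (Scheme.ΓSpecIso (CommRingCat.of A)).hom.hom c) hab).trans (hn b)))
  obtain ⟨hfl, hsur⟩ := flat_surjective_of_dominant (ψ ≫ q) hinj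
  letI : ∀ a, Algebra D (R a) := fun a => ((φa a).comp (D.val : D →+* A)).toAlgebra
  have hmap : ∀ a, Spec.map (CommRingCat.ofHom ((φa a).comp (D.val : D →+* A))) = g a ≫ (ψ ≫ q).left := fun a => by
    rw [CommRingCat.ofHom_comp, Spec.map_comp, Over.comp_left, hq, ← Category.assoc]
    congr 1
    exact Spec.map_preimage _
  haveI := hfl
  haveI : ∀ a, Module.Flat D (R a) := fun a => by
    have : Flat (Spec.map (CommRingCat.ofHom ((φa a).comp (D.val : D →+* A)))) := by
      rw [hmap]; infer_instance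
    exact RingHom.flat_algebraMap_iff.1 ((HasRingHomProperty.Spec_iff (P := @Flat)).1 this)
  haveI : Fintype 𝒰.I₀ := Fintype.ofFinite _
  haveI : Module.Flat D (∀ a, R a) := Module.Flat.of_linearEquiv DFinsupp.linearEquivFunOnFintype.symm
  let d' : D := ⟨d, hd⟩
  let I' : Ideal D := Ideal.span {c : D | (c : A) ∈ C ∧ Coalgebra.counit (R := k) (c : A) = 0}
  have hd' : d' ∈ I' := by
    refine mem_of_mem_map_faithfullyFlat (R := ∀ a, R a) ?_ ?_
    · intro P
      obtain ⟨y, hy⟩ := hsur.surj P
      obtain ⟨a, z, hz⟩ := Scheme.Cover.exists_eq 𝒰 y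
      let z' := (𝒰.X a).isoSpec.hom z
      refine ⟨PrimeSpectrum.comap (Pi.evalRingHom R a) z', ?_⟩
      have e1 : g a z' = y := by
        have e2 := congr($((𝒰.X a).isoSpec.hom_inv_id) z)
        rw [Scheme.Hom.comp_apply] at e2
        simp only [g, z', Scheme.Hom.comp_apply]
        exact (congrArg (𝒰.f a) e2).trans hz
      have : (g a ≫ (ψ ≫ q).left) z' = P := by
        rw [Scheme.Hom.comp_apply, e1, hy]
      rw [← hmap] at this
      exact this
    · have h1 : φ d ∈ I C := by
        rw [← hID]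
        exact Ideal.subset_span ⟨d, ⟨hd, hd0⟩, rfl⟩
      refine (show I C ≤ I'.map (algebraMap D (∀ a, R a)) from ?_) h1
      refine Ideal.span_le.2 ?_
      rintro _ ⟨c, hc, rfl⟩
      exact Ideal.mem_map_of_mem (algebraMap D (∀ a, R a)) (Ideal.subset_span (show (⟨c, hCD hc.1⟩ : D) ∈ _ from hc))
  have h2 : (Ideal.map (D.val : D →+* A) I') ≤ SGA3.augIdealSpan k A C := by
    rw [Ideal.map_span]
    exact Ideal.span_mono fun a ⟨c, hc, e⟩ => e ▸ hc
  exact h2 (Ideal.mem_map_of_mem (D.val : D →+* A) hd')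

/-- The affine hull of an algebraic group is algebraic and the canonical morphism is faithfully flat. -/
theorem toSpecΓ_faithfullyFlat (G : Over S) [GrpObj G] [LocallyOfFiniteType G.hom] [QuasiCompact G.hom] :
    Surjective G.left.toSpecΓ ∧ Flat G.left.toSpecΓ ∧ LocallyOfFiniteType (hullObj G).hom := by
  haveI : IsLocallyNoetherian G.left := LocallyOfFiniteType.isLocallyNoetherian G.hom
  haveI : QuasiSeparated G.hom := inferInstance
  have hi := isHull_toHull G
  haveI := hi.affine
  haveI := hi.iso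
  obtain ⟨_, hmon⟩ := exists_grpObj_hull hi
  haveI := hmon
  obtain ⟨A', ⟨e⟩⟩ := (essImage_hopfSpec (R := CommRingCat.of k) (G := Grp.mk (hullObj G))).2 inferInstance
  obtain ⟨A, rfl⟩ : ∃ A, Opposite.op A = A' := ⟨A'.unop, rfl⟩
  let P : Over S := (Spec (CommRingCat.of (A : Type u))).asOver S
  let ψ : G ⟶ P := toHull G ≫ e.inv.hom.hom
  haveI : IsMonHom e.inv.hom.hom := e.inv.hom.isMonHom_hom
  haveI : IsMonHom ψ := inferInstanceAs (IsMonHom (toHull G ≫ e.inv.hom.hom))
  let i : P ≅ hullObj G := (Grp.forget _).mapIso e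
  haveI : IsIso i.inv.left := (Over.forget _).map_isIso i.inv
  haveI : IsIso i.hom.left := (Over.forget _).map_isIso i.hom
  have hψ : Function.Injective ψ.left.appTop.hom := by
    haveI : IsIso ψ.left.appTop := by
      change IsIso ((toHull G).left ≫ i.inv.left).appTop
      rw [Scheme.Hom.comp_appTop]
      infer_instance
    exact ((ConcreteCategory.isIso_iff_bijective ψ.left.appTop).1 inferInstance).1
  haveI := finiteType_hull G (A : Type u) ψ hψ
  haveI : LocallyOfFiniteType P.hom :=
    (HasRingHomProperty.Spec_iff (P := @LocallyOfFiniteType)).2 (RingHom.finiteType_algebraMap.2 inferInstance)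
  haveI hlft : LocallyOfFiniteType (hullObj G).hom := by
    rw [← Over.w i.inv]; infer_instance
  obtain ⟨h1, h2⟩ := flat_surjective_of_dominant (toHull G)
    ((ConcreteCategory.isIso_iff_bijective (toHull G).left.appTop).1 inferInstance).1
  exact ⟨h2, h1, hlft⟩

end GrothLib.AffHull14
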