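import Groth.Agent.Lib.AffHull14.Basic
import Groth.Agent.Lib.AntiAffSmooth14.Reduced
import Groth.Agent.Lib.EssFree.Subgroup
import Groth.Agent.Lib.SchEffective.BaseChangeSections

/-!
The kernel of the map to the affine hull is anti-affine, hence smooth and connected.
-/

set_option autoImplicit false
set_option backward.isDefEq.respectTransparency false

universe u

open CategoryTheory CategoryTheory.Limits MonoidalCategory CartesianMonoidalCategory MonObj GrpObj AlgebraicGeometry
open scoped TensorProduct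

noncomputable section

namespace GrothLib.AffHull14

variable {k : Type u} [Field k]

/-- A `k`-algebra which becomes trivial after tensoring with a non-zero algebra is trivial. -/
theorem bijective_of_isPushout {B : Type u} [CommRing B] [Nontrivial B] [Algebra k B] {A P : CommRingCat.{u}}
    {f : CommRingCat.of k ⟶ A} {a : A ⟶ P} {b : CommRingCat.of B ⟶ P}
    (h : IsPushout f (CommRingCat.ofHom (algebraMap k B)) a b) (hb : Function.Bijective b.hom) :
    Function.Bijective f.hom := by
  algebraize [f.hom]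
  let e : P ≅ CommRingCat.of (A ⊗[k] B) :=
    h.isoIsPushout _ _ (CommRingCat.isPushout_tensorProduct k A B)
  have hr : Function.Bijective (Algebra.TensorProduct.includeRight : B →ₐ[k] A ⊗[k] B) := by
    have he : b ≫ e.hom = CommRingCat.ofHom (S := A ⊗[k] B) (Algebra.TensorProduct.includeRight : B →ₐ[k] A ⊗[k] B).toRingHom :=
      h.inr_isoIsPushout_hom _ _ (CommRingCat.isPushout_tensorProduct k A B)
    have : Function.Bijective (b ≫ e.hom).hom :=
      (ConcreteCategory.bijective_of_isIso e.hom).comp hb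
    rwa [he] at this
  have : Nontrivial (A ⊗[k] B) := (Equiv.ofBijective _ hr).symm.nontrivial
  have : Nontrivial A := RingHom.domain_nontrivial
    (Algebra.TensorProduct.includeLeftRingHom : A →+* A ⊗[k] B)
  refine ⟨RingHom.injective _, fun x => ?_⟩
  by_contra hx
  have hsub : x ∉ (k ∙ (1 : A)) := by
    intro hmem
    obtain ⟨c, hc⟩ := Submodule.mem_span_singleton.mp hmem
    exact hx ⟨c, by rw [← hc, Algebra.smul_def, _root_.mul_one]; rfl⟩
  obtain ⟨φ, hφx, hφ⟩ := Submodule.exists_le_ker_of_notMem hsub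
  have hφ1 : φ 1 = 0 := hφ (Submodule.mem_span_singleton_self _)
  obtain ⟨c, hc⟩ := hr.2 (x ⊗ₜ 1)
  have h2 := congrArg (TensorProduct.lid k B ∘ φ.rTensor B) hc
  simp [hφ1] at h2
  exact hφx (smul_eq_zero.mp h2.symm |>.resolve_right one_ne_zero)

/-- The kernel of the map to the affine hull is anti-affine. -/
theorem exists_kernel (G : Over (Spec (CommRingCat.of k))) [GrpObj G] [LocallyOfFiniteType G.hom]
    [QuasiCompact G.hom] :
    ∃ _ : GrpObj (Over.mk (pullback.snd G.left.toSpecΓ (η[G].left ≫ G.left.toSpecΓ) ≫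
        (𝟙_ (Over (Spec (CommRingCat.of k)))).hom)),
      LocallyOfFiniteType (pullback.snd G.left.toSpecΓ (η[G].left ≫ G.left.toSpecΓ) ≫
        (𝟙_ (Over (Spec (CommRingCat.of k)))).hom) ∧
      QuasiCompact (pullback.snd G.left.toSpecΓ (η[G].left ≫ G.left.toSpecΓ) ≫
        (𝟙_ (Over (Spec (CommRingCat.of k)))).hom) ∧
      GrothLib.AntiAffine.IsAntiAffine (Over.mk (pullback.snd G.left.toSpecΓ (η[G].left ≫ G.left.toSpecΓ) ≫
        (𝟙_ (Over (Spec (CommRingCat.of k)))).hom)) := by
  haveI : IsLocallyNoetherian G.left := LocallyOfFiniteType.isLocallyNoetherian G.hom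
  haveI : QuasiSeparated G.hom := inferInstance
  haveI : CompactSpace G.left := QuasiCompact.compactSpace_of_compactSpace G.hom
  haveI : QuasiSeparatedSpace G.left := quasiSeparatedSpace_of_quasiSeparated G.hom
  obtain ⟨hsur, hfl, hlft⟩ := toSpecΓ_faithfullyFlat G
  have hi := isHull_toHull G
  haveI := hi.affine
  haveI := hi.iso
  obtain ⟨_, hmon⟩ := exists_grpObj_hull hi
  haveI := hmon
  let H := hullObj G
  let ρ : G ⟶ H := toHull G
  let N : Over (Spec (CommRingCat.of k)) := Over.mk (pullback.snd G.left.toSpecΓ (η[G].left ≫ G.left.toSpecΓ) ≫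
        (𝟙_ (Over (Spec (CommRingCat.of k)))).hom)
  have hη : η[H].left = η[G].left ≫ G.left.toSpecΓ := by
    rw [← IsMonHom.one_hom ρ]; rfl
  let i : N ⟶ G := Over.homMk (pullback.fst _ _) (by
    show pullback.fst G.left.toSpecΓ (η[G].left ≫ G.left.toSpecΓ) ≫ G.hom = pullback.snd _ _ ≫ _
    rw [← Over.w ρ, ← Over.w η[G], ← Category.assoc]
    show (pullback.fst G.left.toSpecΓ _ ≫ G.left.toSpecΓ) ≫ H.hom = _
    rw [pullback.condition, Category.assoc, Category.assoc]
    congr 2
    exact Over.w ρ)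
  have sqS : IsPullback i.left (toUnit N).left ρ.left η[H].left := by
    have h := Over.w (toUnit N)
    change (toUnit N).left ≫ 𝟙 _ = pullback.snd _ _ ≫ 𝟙 _ at h
    rw [Category.comp_id, Category.comp_id] at h
    rw [hη, h]
    exact IsPullback.of_hasPullback G.left.toSpecΓ (η[G].left ≫ G.left.toSpecΓ)
  have sqN : IsPullback i (toUnit N) ρ η[H] :=
    IsPullback.of_map (Over.forget _) (Over.OverMorphism.ext sqS.w) sqS
  haveI : Mono i := GrothLib.GrpSchField.mono_of_kernel sqN
  have hfac : ∀ (T : Over (Spec (CommRingCat.of k))) (g : T ⟶ G), g ≫ ρ = 1 → ∃ z : T ⟶ N, z ≫ i = g :=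
    fun T g hg => GrothLib.GrpSchField.exists_lift_of_comp_eq_one sqN g hg
  have hiρ : i ≫ ρ = 1 := GrothLib.GrpSchField.comp_eq_one sqN
  obtain ⟨gN, hmi⟩ := GrothLib.EssFree.exists_grpObj_of_mono i
    (fun T => hfac T 1 (by rw [MonObj.one_comp]))
    (fun T a b => hfac T _ (by
      rw [MonObj.mul_comp, Category.assoc, Category.assoc, hiρ, MonObj.comp_one, MonObj.comp_one, _root_.mul_one]))
    (fun T a => hfac T _ (by rw [GrpObj.inv_comp, Category.assoc, hiρ, MonObj.comp_one, inv_one]))
  haveI : IsAffineHom (η[G].left ≫ G.left.toSpecΓ) := by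
    haveI : IsAffine (𝟙_ (Over (Spec (CommRingCat.of k)))).left := inferInstanceAs (IsAffine (Spec _))
    exact isAffineHom_of_isAffine _
  haveI : LocallyOfFiniteType N.hom := by
    rw [← Over.w i]
    haveI : LocallyOfFiniteType (η[G].left ≫ G.left.toSpecΓ) := by
      have : LocallyOfFiniteType ((η[G].left ≫ G.left.toSpecΓ) ≫ H.hom) := by
        rw [Category.assoc, show G.left.toSpecΓ ≫ H.hom = G.hom from Over.w ρ, Over.w η[G]]
        exact inferInstanceAs (LocallyOfFiniteType (𝟙 _))
      exact locallyOfFiniteType_of_comp _ H.hom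
    haveI : LocallyOfFiniteType i.left :=
      inferInstanceAs (LocallyOfFiniteType (pullback.fst G.left.toSpecΓ (η[G].left ≫ G.left.toSpecΓ)))
    infer_instance
  haveI : QuasiCompact N.hom := by
    rw [← Over.w i]
    haveI : QuasiCompact i.left :=
      inferInstanceAs (QuasiCompact (pullback.fst G.left.toSpecΓ (η[G].left ≫ G.left.toSpecΓ)))
    infer_instance
  refine ⟨gN, ‹LocallyOfFiniteType N.hom›, ‹QuasiCompact N.hom›, ?_⟩
  -- an affine open neighbourhood of the origin
  let o : ↥(Spec (CommRingCat.of k)) := IsLocalRing.closedPoint k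
  obtain ⟨U, hU, heU, -⟩ := exists_isAffineOpen_mem_and_subset
    (show η[G].left o ∈ (⊤ : G.left.Opens) from trivial)
  let U' : Over (Spec (CommRingCat.of k)) := Over.mk (U.ι ≫ G.hom)
  haveI : IsAffine U'.left := hU
  let a : U' ⟶ G := Over.homMk U.ι rfl
  let t : U' ⊗ N ⟶ G := (fst U' N ≫ a) * (snd U' N ≫ i)
  have sq : IsPullback (fst U' N) t (a ≫ ρ) ρ := by
    have w : fst U' N ≫ a ≫ ρ = t ≫ ρ := by
      rw [MonObj.mul_comp, Category.assoc, Category.assoc, hiρ, MonObj.comp_one, _root_.mul_one]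
    refine IsPullback.of_isLimit' ⟨w⟩ (PullbackCone.IsLimit.mk _
      (fun c => lift c.fst (sqN.lift ((c.fst ≫ a)⁻¹ * c.snd) (toUnit _) (by
        rw [MonObj.mul_comp, GrpObj.inv_comp, Category.assoc, c.condition, inv_mul_cancel, Hom.one_def])))
      (fun c => lift_fst _ _) (fun c => ?_) (fun c m h1 h2 => ?_))
    · rw [MonObj.comp_mul, lift_fst_assoc, lift_snd_assoc, IsPullback.lift_fst, mul_inv_cancel_left]
    · apply CartesianMonoidalCategory.hom_ext
      · rw [lift_fst, h1]
      · rw [lift_snd, ← cancel_mono i, IsPullback.lift_fst, ← h2, MonObj.comp_mul, ← Category.assoc, h1,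
          inv_mul_cancel_left, Category.assoc]
  have sqS' := sq.map (Over.forget _)
  haveI : Flat ρ.left := hfl
  haveI : Flat (a ≫ ρ).left := inferInstanceAs (Flat (U.ι ≫ ρ.left))
  haveI : IsAffine H.left := hi.affine
  have hpo := GrothLib.SchEffective.isPushout_appTop (a ≫ ρ).left ρ.left
  haveI : IsIso ρ.left.appTop := hi.iso
  haveI : IsIso (pullback.snd ρ.left (a ≫ ρ).left).appTop := hpo.isIso_inr_of_isIso
  haveI hfst : IsIso (fst U' N).left.appTop := by
    have e : sqS'.flip.isoPullback.hom ≫ pullback.snd ρ.left (a ≫ ρ).left = (fst U' N).left :=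
      IsPullback.isoPullback_hom_snd _
    rw [← e, Scheme.Hom.comp_appTop]
    infer_instance
  haveI : IsSeparated N.hom := GrothLib.GrpSchField.isSeparated N
  haveI : QuasiSeparated N.hom := inferInstance
  haveI : QuasiCompact U'.hom := inferInstanceAs (QuasiCompact (U.ι ≫ G.hom))
  haveI : QuasiSeparated U'.hom := inferInstanceAs (QuasiSeparated (U.ι ≫ G.hom))
  have hprod := (GrothLib.AffMono14.isPushout_appTop_prod U' N).flip
  letI : Algebra k Γ(U'.left, ⊤) := ((Scheme.ΓSpecIso (CommRingCat.of k)).inv ≫ U'.hom.appTop).hom.toAlgebra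
  haveI : Nontrivial Γ(U'.left, ⊤) := by
    haveI : Nonempty (⊤ : U'.left.Opens) := ⟨⟨⟨η[G].left o, heU⟩, trivial⟩⟩
    exact Scheme.component_nontrivial U'.left ⊤
  have h' : IsPushout ((Scheme.ΓSpecIso (CommRingCat.of k)).inv ≫ N.hom.appTop)
      (CommRingCat.ofHom (algebraMap k Γ(U'.left, ⊤))) (snd U' N).left.appTop (fst U' N).left.appTop := by
    refine hprod.of_iso (Scheme.ΓSpecIso (CommRingCat.of k)) (Iso.refl _) (Iso.refl _) (Iso.refl _) (by simp) ?_
      (by simp) (by simp)
    simp [RingHom.algebraMap_toAlgebra]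
  exact bijective_of_isPushout h' (ConcreteCategory.bijective_of_isIso (C := CommRingCat) _)

end GrothLib.AffHull14
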